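import Groth.Agent.VecBal.K812.Iface
import Groth.Agent.S0034
import Groth.Agent.Fdesc.GeomAlgClosed
import Groth.Agent.Sga3C.GeomRedPerf
import Groth.Agent.Ega1.ReducedSub
import Groth.Agent.CurvesA.HHMap
import Groth.Agent.PerfA.QCohEpi
import Groth.Agent.PerfA.QCohSerre
import Groth.Agent.Fga.EulerIso
import Groth.Agent.Etcore.CurveTop
import Groth.Agent.CohqA.PullbackQCoh
import Mathlib.AlgebraicGeometry.AlgClosed.Basic

/-!
# Balanced bundles and extensions of algebraically closed fields (helper423)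

`X' = X ×_Ω Ω'` with `Ω ⊆ Ω'` algebraically closed. Euler characteristics, degrees, subcurves and the numbers `k_Z` do not
change; so a bundle on `X` is balanced if its pull-back to `X'` is (node J3b of the stack of properly balanced bundles).

* `euler_pull`, `deg_pull` : invariance of `Curv2.euler`, `Curv2.deg` under field extensions;
* `comap_vanishingIdeal` : `(I_Z).comap i = I_(i⁻¹ Z)`;
* `isPullback_subsch` : the reduced subscheme of `i⁻¹ Z` is the base change of the reduced subscheme of `Z`;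
* `isSubcurve_preimage`, `kZ_preimage`;
* `main : K812.Iface.BalDescStmt`.
-/

set_option autoImplicit false
universe u

open CategoryTheory CategoryTheory.Limits AlgebraicGeometry TopologicalSpace
open Groth.Agent

namespace K423.BalDesc

section euler

variable {k k' : Type u} [Field k] [Field k'] {Y Y' : Scheme.{u}} {p : Y ⟶ Spec (CommRingCat.of k)}
  {p' : Y' ⟶ Spec (CommRingCat.of k')} {g : Y' ⟶ Y} {s : Spec (CommRingCat.of k') ⟶ Spec (CommRingCat.of k)}

theorem euler_congr (p : Y ⟶ Spec (CommRingCat.of k)) {M N : Y.Modules} (e : M ≅ N) :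
    @Curv2.euler k _ Y ⟨p⟩ M = @Curv2.euler k _ Y ⟨p⟩ N := by
  let _ : Y.Over (Spec (CommRingCat.of k)) := ⟨p⟩
  unfold Curv2.euler
  refine finsum_congr fun i => ?_
  rw [(Fga.EulerIso.HHequiv k e i).finrank_eq]

/-- Euler characteristics are invariant under field extensions. -/
theorem euler_pull [CompactSpace Y] [QuasiSeparatedSpace Y] (h : IsPullback g p' p s) (F : Y.Modules)
    (hF : Coh.IsQCoh F) :
    @Curv2.euler k' _ Y' ⟨p'⟩ ((Scheme.Modules.pullback g).obj F) = @Curv2.euler k _ Y ⟨p⟩ F := by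
  obtain ⟨φ, rfl⟩ : ∃ φ, s = Spec.map φ := ⟨_, (Spec.map_preimage s).symm⟩
  let _ : Algebra k k' := φ.hom.toAlgebra
  let _ : Y.Over (Spec (CommRingCat.of k)) := ⟨p⟩
  let _ : Y'.Over (Spec (CommRingCat.of k')) := ⟨p'⟩
  unfold Curv2.euler
  refine finsum_congr fun i => ?_
  obtain ⟨e⟩ := Groth.Agent.S0034.result k k' Y Y' g h F i
  rw [← e.finrank_eq, Module.finrank_baseChange]

theorem deg_congr (p : Y ⟶ Spec (CommRingCat.of k)) {M N : Y.Modules} (e : M ≅ N) (r : ℕ) :
    @Curv2.deg k _ Y ⟨p⟩ M r = @Curv2.deg k _ Y ⟨p⟩ N r := by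
  unfold Curv2.deg
  rw [euler_congr p e]

theorem deg_pull [CompactSpace Y] [QuasiSeparatedSpace Y] (h : IsPullback g p' p s) (F : Y.Modules)
    (hF : Coh.IsQCoh F) (r : ℕ) :
    @Curv2.deg k' _ Y' ⟨p'⟩ ((Scheme.Modules.pullback g).obj F) r = @Curv2.deg k _ Y ⟨p⟩ F r := by
  unfold Curv2.deg
  rw [euler_pull h F hF, ← euler_pull h (Coh.structureModule Y) (PerfA.QCohSerre.isQCoh_unit Y),
    euler_congr p' (CurvesA.HHMap.pullbackUnit g)]

end euler

section geom

variable {Ω Ω' : Type u} [Field Ω] [IsAlgClosed Ω] [Field Ω'] {X X' : Scheme.{u}}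
  {q : X ⟶ Spec (CommRingCat.of Ω)} {q' : X' ⟶ Spec (CommRingCat.of Ω')} {i : X' ⟶ X}
  {e : Spec (CommRingCat.of Ω') ⟶ Spec (CommRingCat.of Ω)}

theorem facts (h : IsPullback i q' q e) :
    GeometricallyIrreducible i ∧ GeometricallyReduced i ∧ Flat i ∧ QuasiCompact i ∧ UniversallyOpen i := by
  obtain ⟨φ, rfl⟩ : ∃ φ, e = Spec.map φ := ⟨_, (Spec.map_preimage e).symm⟩
  have h1 : GeometricallyIrreducible (Spec.map φ) := by
    let _ : Algebra Ω Ω' := φ.hom.toAlgebra
    exact Groth.Agent.Fdesc.GeomAlgClosed.geometricallyIrreducible_spec Ω Ω'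
  have h2 : GeometricallyReduced (Spec.map φ) :=
    Groth.Agent.Sga3C.GeomRedPerf.geometricallyReduced_of_isReduced _
  have h3 : Flat (Spec.map φ) := inferInstance
  have h4 : UniversallyOpen (Spec.map φ) := inferInstance
  exact ⟨MorphismProperty.of_isPullback h.flip h1, MorphismProperty.of_isPullback h.flip h2,
    MorphismProperty.of_isPullback h.flip h3,
    MorphismProperty.of_isPullback h.flip (inferInstance : QuasiCompact (Spec.map φ)),
    MorphismProperty.of_isPullback h.flip h4⟩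

variable (h : IsPullback i q' q e)
include h

/-- The ideal of the reduced subscheme commutes with the extension of the ground field. -/
theorem comap_vanishingIdeal [IsLocallyNoetherian X] (Z : Set X) (hZ : IsClosed Z) (hZ' : IsClosed (i ⁻¹' Z)) :
    (Scheme.IdealSheafData.vanishingIdeal ⟨Z, hZ⟩).comap i =
      Scheme.IdealSheafData.vanishingIdeal ⟨i ⁻¹' Z, hZ'⟩ := by
  obtain ⟨-, h2, h3, h4, -⟩ := facts h
  have hr : IsReduced (Scheme.IdealSheafData.vanishingIdeal ⟨Z, hZ⟩).subscheme :=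
    Groth.Agent.Ega1.ReducedSub.isReduced_subscheme_vanishingIdeal _
  have hn : IsLocallyNoetherian (Scheme.IdealSheafData.vanishingIdeal ⟨Z, hZ⟩).subscheme :=
    LocallyOfFiniteType.isLocallyNoetherian (Scheme.IdealSheafData.vanishingIdeal ⟨Z, hZ⟩).subschemeι
  have hP : IsReduced (pullback i (Scheme.IdealSheafData.vanishingIdeal ⟨Z, hZ⟩).subschemeι) := inferInstance
  have h5 : (Scheme.IdealSheafData.vanishingIdeal ⟨Z, hZ⟩).comap i =
      (pullback.fst i (Scheme.IdealSheafData.vanishingIdeal ⟨Z, hZ⟩).subschemeι).ker := rfl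
  rw [h5, Groth.Agent.Ega1.ReducedSub.ker_eq_vanishingIdeal]
  congr 1
  ext x
  have h6 : Set.range (pullback.fst i (Scheme.IdealSheafData.vanishingIdeal ⟨Z, hZ⟩).subschemeι) = i ⁻¹' Z := by
    rw [Scheme.Pullback.range_fst, Scheme.IdealSheafData.range_subschemeι]
    simp
  change x ∈ closure _ ↔ _
  rw [h6, hZ'.closure_eq]
  rfl

omit h in
theorem isPullback_comap {I : X.IdealSheafData} {J : X'.IdealSheafData} (hJ : I.comap i = J) :
    ∃ m : J.subscheme ⟶ I.subscheme, IsPullback m J.subschemeι I.subschemeι i := by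
  subst hJ
  refine ⟨(I.comapIso i).hom ≫ pullback.snd _ _, ?_⟩
  have h1 : IsPullback (pullback.snd i I.subschemeι) (pullback.fst i I.subschemeι) I.subschemeι i :=
    (IsPullback.of_hasPullback i I.subschemeι).flip
  refine h1.of_iso (I.comapIso i).symm (Iso.refl _) (Iso.refl _) (Iso.refl _) ?_ ?_ ?_ ?_
  · simp only [Iso.symm_hom, Iso.refl_hom, Category.comp_id, Iso.inv_hom_id_assoc]
  all_goals simp

/-- The reduced subscheme on `i⁻¹ Z` is the base change of the reduced subscheme on `Z`. -/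
theorem isPullback_subsch [IsLocallyNoetherian X] (Z : Set X) (hZ : IsClosed Z) (hZ' : IsClosed (i ⁻¹' Z)) :
    ∃ m : VecSt.subsch X' (i ⁻¹' Z) hZ' ⟶ VecSt.subsch X Z hZ,
      IsPullback m (VecSt.subschι X' (i ⁻¹' Z) hZ') (VecSt.subschι X Z hZ) i :=
  isPullback_comap (comap_vanishingIdeal h Z hZ hZ')

theorem preimage_mem {W : Set X} (hW : W ∈ irreducibleComponents (X : Type u)) :
    i ⁻¹' W ∈ irreducibleComponents (X' : Type u) := by
  obtain ⟨h1, -, -, -, h5⟩ := facts h
  exact ((i.irreducibleComponentsEquiv i.isOpenMap).symm ⟨W, hW⟩).2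

theorem isSubcurve_preimage {Z : Set X} (hZ : VecSt.IsSubcurve X Z) : VecSt.IsSubcurve X' (i ⁻¹' Z) := by
  obtain ⟨𝒮, h1, h2, rfl⟩ := hZ
  refine ⟨(fun W => i ⁻¹' W) '' 𝒮, ?_, h2.image _, ?_⟩
  · rintro _ ⟨W, hW, rfl⟩
    exact preimage_mem h (h1 hW)
  · rw [Set.preimage_sUnion, Set.sUnion_image]

/-- Over a closed point there is exactly one point. -/
theorem subsingleton_fibre [LocallyOfFiniteType q] {x : X} (hx : IsClosed ({x} : Set X)) :
    (i ⁻¹' {x} : Set X').Subsingleton := by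
  let t := pointOfClosedPoint q x hx
  have h1 : IsPullback (pullback.snd i t) (pullback.fst i t ≫ q') (t ≫ q) e :=
    (IsPullback.of_hasPullback i t).flip.paste_vert h
  have h2 : t ≫ q = 𝟙 _ := pointOfClosedPoint_comp q x hx
  have h3 : IsIso (pullback.fst i t ≫ q') := by
    rw [h2] at h1
    exact MorphismProperty.of_isPullback (P := MorphismProperty.isomorphisms Scheme.{u}) h1
      (inferInstance : IsIso (𝟙 (Spec (CommRingCat.of Ω))))
  have h4 : Subsingleton (pullback i t : Scheme.{u}) :=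
    (Scheme.Hom.homeomorph (pullback.fst i t ≫ q')).injective.subsingleton
  have h5 : Set.range (pullback.fst i t) = i ⁻¹' {x} := by
    rw [Scheme.Pullback.range_fst]
    congr 1
    ext y
    constructor
    · rintro ⟨z, rfl⟩
      exact pointOfClosedPoint_apply q x hx z
    · rintro rfl
      exact ⟨IsLocalRing.closedPoint Ω, pointOfClosedPoint_apply q y hx _⟩
  rw [← h5]
  exact Set.subsingleton_range _

omit h in
/-- The points at which a subcurve meets the rest of the curve are closed. -/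
theorem isClosed_of_mem [IsNoetherian X] (hdim : topologicalKrullDim X = 1) {Z : Set X}
    (hZ : IsClosed Z) {x : X} (hx : x ∈ Z ∩ closure Zᶜ) : IsClosed ({x} : Set X) := by
  let U : X.Opens := ⟨(Z ∩ closure Zᶜ)ᶜ, (hZ.inter isClosed_closure).isOpen_compl⟩
  refine (Groth.Agent.Etcore.CurveTop.compl_finite X hdim.le U ?_).2 x (fun h => h hx)
  intro C hC
  by_cases hCZ : C ⊆ Z
  · obtain ⟨o, ho, ⟨y, hy⟩, hoC⟩ :=
      TopologicalSpace.NoetherianSpace.exists_isOpen_nonempty_subset_irreducibleComponent C hC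
    refine ⟨y, fun hy' => ?_, hoC hy⟩
    obtain ⟨w, hw1, hw2⟩ := mem_closure_iff.1 hy'.2 o ho hy
    exact hw2 (hCZ (hoC hw1))
  · obtain ⟨y, hy1, hy2⟩ := Set.not_subset.1 hCZ
    exact ⟨y, fun hy' => hy2 hy'.1, hy1⟩

/-- The number `k_Z` does not change. -/
theorem kZ_preimage [IsNoetherian X] [LocallyOfFiniteType q] (hdim : topologicalKrullDim X = 1) {Z : Set X}
    (hZ : IsClosed Z) : VecSt.kZ X' (i ⁻¹' Z) = VecSt.kZ X Z := by
  obtain ⟨h1, -, -, -, h5⟩ := facts h
  unfold VecSt.kZ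
  have h2 : (i ⁻¹' Z ∩ closure (i ⁻¹' Z)ᶜ : Set X') = i ⁻¹' (Z ∩ closure Zᶜ) := by
    rw [Set.preimage_inter, ← Set.preimage_compl,
      i.isOpenMap.preimage_closure_eq_closure_preimage i.continuous]
  have h3 : Set.InjOn i (i ⁻¹' (Z ∩ closure Zᶜ)) := by
    intro x hx y _ hxy
    exact subsingleton_fibre h (isClosed_of_mem hdim hZ hx) (Set.mem_singleton_iff.2 rfl)
      (Set.mem_singleton_iff.2 hxy.symm)
  rw [h2, ← h3.ncard_image, Set.image_preimage_eq _ i.surjective]

end geom

theorem main : VecBal.K812.Iface.BalDescStmt.{u} := by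
  intro Ω Ω' _ _ _ _ X X' q q' i hext g r d hss E hE
  obtain ⟨e, h⟩ := hext.out
  obtain ⟨hprop, -, hdim, -, -⟩ := hss
  have hX : CompactSpace X := (quasiCompact_iff_compactSpace (f := q)).mp inferInstance
  have hX' : QuasiSeparatedSpace X := (quasiSeparated_iff_quasiSeparatedSpace (f := q)).mp inferInstance
  have hN : IsLocallyNoetherian X := LocallyOfFiniteType.isLocallyNoetherian q
  have hN' : IsNoetherian X := {}
  have hEq : Coh.IsQCoh E := PerfA.QCohEpi.isQCoh_of_isFinLocFree fun x => by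
    obtain ⟨U, hxU, hU⟩ := hE x
    exact ⟨U, r, hxU, hU⟩
  refine ⟨fun hd => (deg_pull h E hEq r).symm.trans hd, fun hB Z hZ hS => ?_⟩
  have hZ' : IsClosed (i ⁻¹' Z) := hZ.preimage i.continuous
  obtain ⟨m, hm⟩ := isPullback_subsch h Z hZ hZ'
  have hsq : IsPullback m (VecSt.subschι X' (i ⁻¹' Z) hZ' ≫ q') (VecSt.subschι X Z hZ ≫ q) e := hm.paste_vert h
  have hc : CompactSpace (VecSt.subsch X Z hZ) :=
    (quasiCompact_iff_compactSpace (f := VecSt.subschι X Z hZ ≫ q)).mp inferInstance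
  have hc' : QuasiSeparatedSpace (VecSt.subsch X Z hZ) :=
    (quasiSeparated_iff_quasiSeparatedSpace (f := VecSt.subschι X Z hZ ≫ q)).mp inferInstance
  have h1 := hB (i ⁻¹' Z) hZ' (isSubcurve_preimage h hS)
  have hEZ : Coh.IsQCoh ((Scheme.Modules.pullback (VecSt.subschι X Z hZ)).obj E) := by
    have : E.IsQuasicoherent := hEq
    exact Groth.Agent.CohqA.PullbackQCoh.isQuasicoherent_pullback _ E
  have e1 : (Scheme.Modules.pullback (VecSt.subschι X' (i ⁻¹' Z) hZ')).obj ((Scheme.Modules.pullback i).obj E) ≅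
      (Scheme.Modules.pullback m).obj ((Scheme.Modules.pullback (VecSt.subschι X Z hZ)).obj E) :=
    (Scheme.Modules.pullbackComp _ _).app E ≪≫
      (Scheme.Modules.pullbackCongr hm.w.symm).app E ≪≫ ((Scheme.Modules.pullbackComp _ _).app E).symm
  have h2 := (deg_congr (VecSt.subschι X' (i ⁻¹' Z) hZ' ≫ q') e1 r).trans (deg_pull hsq _ hEZ r)
  have h3 := (euler_congr (VecSt.subschι X' (i ⁻¹' Z) hZ' ≫ q') (CurvesA.HHMap.pullbackUnit m)).symm.trans
    (euler_pull hsq _ (PerfA.QCohSerre.isQCoh_unit _))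
  dsimp only at h1 ⊢
  rw [h2, h3, kZ_preimage h hdim hZ] at h1
  exact h1

end K423.BalDesc
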